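import Cfsg.Agent.LocalTwins.Count

/-!
# Fischer: a local odd core that is not central forces the symmetric group of degree five
-/

set_option autoImplicit false

open Cfsg

namespace Cfsg.Agent.LocalTwins

open Cfsg.Agent.ThreeTrans

variable {G : Type*} [Group G] [Finite G] {D : Set G}

theorem Setup.nonempty_five (S : Setup D) : Nonempty (G ≃* Equiv.Perm (Fin 5)) := by
  classical
  obtain ⟨a₀, p₀, q₀, ha₀, htw, -⟩ := S.twins
  obtain ⟨z, v, hne, h, h', hvx, hvz⟩ := S.exists_mixed ha₀ htw.hp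
  have hch := Setup.chain_of_twin ha₀ h hne h'.hq hvx hvz
  obtain ⟨φ, hφ⟩ := hch.exists_hom S.hT
  have hinj := hom_injective S.hT hch hφ
  let T := Finset.univ.filter fun σ : Equiv.Perm (Fin 5) => σ.support.card = 2
  have hTcard : T.card = 10 := by decide +kernel
  have hTD : ∀ σ ∈ T, φ σ ∈ D := by
    intro σ hσ
    obtain ⟨u, w, huw, rfl⟩ := Equiv.Perm.card_support_eq_two.1 (Finset.mem_filter.1 hσ).2
    obtain ⟨g, hg⟩ := isConj_iff.1 (Equiv.Perm.isConj_swap
      ((by decide : ∀ i : Fin 4, i.castSucc ≠ i.succ) 0) huw)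
    rw [← hg, map_mul, map_mul, map_inv]
    rw [show φ (Equiv.swap (0 : Fin 4).castSucc (0 : Fin 4).succ) = a₀ from hφ 0]
    exact S.hc _ _ ha₀
  have heq : ((T.image φ : Finset G) : Set G) = D := by
    refine Set.eq_of_subset_of_ncard_le (fun u hu => ?_) ?_ (Set.toFinite _)
    · obtain ⟨σ, hσ, rfl⟩ := Finset.mem_image.1 hu
      exact hTD σ hσ
    · rw [Set.ncard_coe_finset, Finset.card_image_of_injective _ hinj, hTcard, S.ncard_eq.2]
  have hsurj : Function.Surjective φ := by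
    rw [← MonoidHom.range_eq_top, eq_top_iff, ← S.cls.2.2, Subgroup.closure_le]
    intro u hu
    rw [← heq] at hu
    obtain ⟨σ, -, rfl⟩ := Finset.mem_image.1 hu
    exact ⟨σ, rfl⟩
  exact ⟨(MulEquiv.ofBijective φ ⟨hinj, hsurj⟩).symm⟩

theorem setup_of_oddCore (hsol : ∀ N : Subgroup G, N.Normal → Group.IsSolvable ↥N → N = ⊥)
    (hperf : ⁅commutator G, commutator G⁆ = commutator G) (hD : IsThreeTranspositionClass D) {x : G}
    (hx : x ∈ D)
    (h : ¬ oddCore ↥(Subgroup.closure (dperp D x)) ≤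
      Subgroup.center ↥(Subgroup.closure (dperp D x))) : Setup D := by
  refine ⟨fun N hN _ hs => hsol N hN hs, hperf, hD, ?_⟩
  set H := Subgroup.closure (dperp D x) with hH
  obtain ⟨k, hk, hkc⟩ := SetLike.not_le_iff_exists.1 h
  obtain ⟨y, hy, hyk⟩ : ∃ y ∈ dperp D x, ¬ Commute y (k : G) := by
    by_contra hcon
    push Not at hcon
    apply hkc
    rw [Subgroup.mem_center_iff]
    intro g
    apply Subtype.ext
    show (g : G) * k = k * g
    have hle : H ≤ Subgroup.centralizer ({(k : G)} : Set G) := by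
      refine (Subgroup.closure_le _).2 ?_
      exact fun e he => Subgroup.mem_centralizer_singleton_iff.2 (hcon e he).eq
    exact Subgroup.mem_centralizer_singleton_iff.1 (hle g.2)
  have hkH : (k : G) ∈ H := k.2
  have hkx : Commute (k : G) x := by
    have hle : H ≤ Subgroup.centralizer ({x} : Set G) := by
      refine (Subgroup.closure_le _).2 ?_
      exact fun e he => Subgroup.mem_centralizer_singleton_iff.2 he.2.2.symm.eq
    exact Subgroup.mem_centralizer_singleton_iff.1 (hle hkH)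
  set z := (k : G) * y * (k : G)⁻¹ with hz
  have hzx : z ∈ dperp D x := by
    have h1 := dperp_conj (class_conj hD) (k : G) hy
    rwa [hkx.eq, mul_inv_cancel_right] at h1
  have hyz : y ≠ z := fun e => hyk <| by
    show y * k = k * y
    conv_lhs => rw [e, hz]
    group
  let N : Subgroup G := (oddCore ↥H).map H.subtype
  have hN : ∀ n ∈ N, n * n = 1 → n = 1 := by
    rintro _ ⟨m, hm, rfl⟩ h2
    have h2' : m ^ 2 = 1 := Subtype.ext (by rw [sq]; exact h2)
    have hdvd : orderOf m ∣ 2 := orderOf_dvd_of_pow_eq_one h2'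
    have hcop : (Nat.card (oddCore ↥H)).Coprime 2 := Core.coprime_card_pPrimeCore
    have h3 : orderOf m ∣ Nat.card (oddCore ↥H) := by
      rw [← Subgroup.orderOf_mk m hm]; exact orderOf_dvd_natCard _
    rw [orderOf_eq_one_iff.1 (Nat.eq_one_of_dvd_coprimes hcop h3 hdvd)]
    rfl
  have hconj : ∀ e ∈ dperp D x, ∀ n ∈ N, e * n * e ∈ N := by
    rintro e he _ ⟨m, hm, rfl⟩
    refine ⟨⟨e, Subgroup.subset_closure he⟩ * m * ⟨e, Subgroup.subset_closure he⟩⁻¹,
      (inferInstance : (oddCore ↥H).Normal).conj_mem m hm _, ?_⟩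
    show e * (m : G) * e⁻¹ = e * m * e
    rw [inv_eq hD.1 he.1]
  have hyzN : y * z ∈ N := by
    let y' : H := ⟨y, Subgroup.subset_closure hy⟩
    refine ⟨y' * k * y'⁻¹ * k⁻¹, mul_mem ((inferInstance : (oddCore ↥H).Normal).conj_mem k hk y')
      (inv_mem hk), ?_⟩
    show y * (k : G) * y⁻¹ * (k : G)⁻¹ = y * ((k : G) * y * (k : G)⁻¹)
    rw [inv_eq hD.1 hy.1]
    group
  have hzyN : z * y ∈ N := by
    have := inv_mem hyzN
    rwa [mul_inv_rev, inv_eq hD.1 hzx.1, inv_eq hD.1 hy.1] at this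
  refine ⟨x, y, z, hx, ⟨hy, hzx, ?_⟩, hyz⟩
  exact Set.Subset.antisymm (twin_of_odd hD hy hzx hyz hN hconj hyzN)
    (twin_of_odd hD hzx hy (Ne.symm hyz) hN hconj hzyN)

end Cfsg.Agent.LocalTwins
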