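import Cfsg.Agent.LocalTwins.Chain
import Cfsg.Agent.Core.PCore

/-!
# Twins among the members commuting with one member

If two members commuting with `x` have the same partners among the members commuting with `x`, then
no three distinct members commute pairwise.
-/

set_option autoImplicit false

open Cfsg

namespace Cfsg.Agent.LocalTwins

open Cfsg.Agent.ThreeTrans

variable {G : Type*} [Group G] {D : Set G} {a p q x y z u v : G}

/-- `p` and `q` commute with `a` and have the same partners among the members commuting with `a`. -/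
structure Twin (D : Set G) (a p q : G) : Prop where
  hp : p ∈ dperp D a
  hq : q ∈ dperp D a
  same : dperp D a ∩ dperp D p = dperp D a ∩ dperp D q

theorem dperp_symm (ha : a ∈ D) (hp : p ∈ dperp D a) : a ∈ dperp D p :=
  ⟨ha, Ne.symm hp.2.1, hp.2.2.symm⟩

theorem Twin.symm (h : Twin D a p q) : Twin D a q p := ⟨h.hq, h.hp, h.same.symm⟩

theorem Twin.not_commute (h : Twin D a p q) (hne : p ≠ q) : ¬ Commute p q := fun hc => by
  have h1 : q ∈ dperp D a ∩ dperp D p := ⟨h.hq, h.hq.1, Ne.symm hne, hc⟩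
  rw [h.same] at h1
  exact h1.2.2.1 rfl

theorem dperp_conj_iff (hc : ∀ g : G, ∀ d ∈ D, g * d * g⁻¹ ∈ D) (g a y : G) :
    g * y * g⁻¹ ∈ dperp D (g * a * g⁻¹) ↔ y ∈ dperp D a := by
  refine ⟨fun h => ?_, dperp_conj hc g⟩
  have h1 := dperp_conj hc g⁻¹ h
  rwa [show g⁻¹ * (g * a * g⁻¹) * g⁻¹⁻¹ = a by group,
    show g⁻¹ * (g * y * g⁻¹) * g⁻¹⁻¹ = y by group] at h1

theorem Twin.conj (hc : ∀ g : G, ∀ d ∈ D, g * d * g⁻¹ ∈ D) (g : G) (h : Twin D a p q) :
    Twin D (g * a * g⁻¹) (g * p * g⁻¹) (g * q * g⁻¹) := by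
  refine ⟨dperp_conj hc g h.hp, dperp_conj hc g h.hq, Set.ext fun e => ?_⟩
  obtain ⟨e', rfl⟩ : ∃ e', e = g * e' * g⁻¹ := ⟨g⁻¹ * e * g, by group⟩
  simp only [Set.mem_inter_iff, dperp_conj_iff hc]
  exact Set.ext_iff.1 h.same e'

variable [Finite G]

/-- The standing hypotheses. -/
structure Setup (D : Set G) : Prop where
  hsol : ∀ N : Subgroup G, N.Normal → N ≤ commutator G → Group.IsSolvable N → N = ⊥
  hperf : ⁅commutator G, commutator G⁆ = commutator G
  cls : IsThreeTranspositionClass D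
  twins : ∃ a p q, a ∈ D ∧ Twin D a p q ∧ p ≠ q

omit [Finite G] in
/-- Two members with a common odd normal product are twins. -/
theorem twin_of_odd (hD : IsThreeTranspositionClass D) {N : Subgroup G} (hy : y ∈ dperp D x)
    (hz : z ∈ dperp D x) (hne : y ≠ z)
    (hN : ∀ n ∈ N, n * n = 1 → n = 1)
    (hconj : ∀ e ∈ dperp D x, ∀ n ∈ N, e * n * e ∈ N) (hyz : y * z ∈ N) :
    dperp D x ∩ dperp D y ⊆ dperp D x ∩ dperp D z := by
  have hT := hD.1
  have hnc : ¬ Commute y z := fun h => hne <| by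
    have h1 := hN _ hyz (by
      rw [← sq]; exact (sq_eq_one_iff hT hy.1 hz.1).2 h)
    rw [mul_eq_one_iff_eq_inv.1 h1, inv_eq hT hz.1]
  rintro e ⟨hex, hey⟩
  refine ⟨hex, hey.1, fun h => hnc (h ▸ hey.2.2), ?_⟩
  by_contra hez
  have hze : ¬ Commute z e := hez
  set n := y * z * (e * (y * z) * e) with hn
  have hnN : n ∈ N := mul_mem hyz (hconj e hex _ hyz)
  have hn' : n = z * (y * e) * z := by
    calc n = y * z * ((e * y) * (z * e)) := by rw [hn]; group
      _ = y * z * ((y * e) * (z * e)) := by rw [hey.2.2.symm.eq]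
      _ = (y * z * y) * (e * z * e) := by group
      _ = (z * y * z) * (z * e * z) := by
        rw [braid hT hy.1 hz.1 hnc, braid hT hey.1 hz.1 fun h => hze h.symm]
      _ = z * (y * ((z * z) * e)) * z := by group
      _ = z * (y * e) * z := by rw [mul_self hT hz.1, one_mul]
  have hn1 : n = 1 := hN n hnN (by
    rw [hn']
    calc z * (y * e) * z * (z * (y * e) * z) = z * ((y * e) * ((z * z) * (y * e))) * z := by group
      _ = z * ((y * e) * (y * e)) * z := by rw [mul_self hT hz.1, one_mul]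
      _ = z * z := by rw [← sq, (sq_eq_one_iff hT hy.1 hey.1).2 hey.2.2, mul_one]
      _ = 1 := mul_self hT hz.1)
  apply hey.2.1
  have h2 : y * e = 1 := by
    calc y * e = (z * z) * (y * e) * (z * z) := by rw [mul_self hT hz.1, one_mul, mul_one]
      _ = z * n * z := by rw [hn']; group
      _ = 1 := by rw [hn1, mul_one, mul_self hT hz.1]
  rw [mul_eq_one_iff_eq_inv.1 h2, inv_eq hT hey.1]

namespace Setup

variable (S : Setup D)
include S

theorem hT : IsThreeTranspositionSet D := S.cls.1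

theorem hc : ∀ g : G, ∀ d ∈ D, g * d * g⁻¹ ∈ D := class_conj S.cls

theorem trans (hx : x ∈ D) (hy : y ∈ dperp D x) (ha : a ∈ D) (hp : p ∈ dperp D a) :
    ∃ g : G, g * a * g⁻¹ = x ∧ g * p * g⁻¹ = y := by
  obtain ⟨g, hg⟩ := class_isConj S.cls ha hx
  have h1 := dperp_conj S.hc g hp
  rw [hg] at h1
  obtain ⟨k, hk, hk2⟩ := exists_commute_conj_dperp S.hsol S.hperf S.cls hx h1 hy
  refine ⟨k * g, ?_, ?_⟩
  · calc k * g * a * (k * g)⁻¹ = k * (g * a * g⁻¹) * k⁻¹ := by group
      _ = x := by rw [hg, hk.eq, mul_inv_cancel_right]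
  · calc k * g * p * (k * g)⁻¹ = k * (g * p * g⁻¹) * k⁻¹ := by group
      _ = y := hk2

theorem exists_twin (hx : x ∈ D) (hy : y ∈ dperp D x) : ∃ z, z ≠ y ∧ Twin D x y z := by
  obtain ⟨a, p, q, ha, h, hne⟩ := S.twins
  obtain ⟨g, hg1, hg2⟩ := S.trans hx hy ha h.hp
  refine ⟨g * q * g⁻¹, fun e => hne ?_, ?_⟩
  · exact (mul_left_cancel (mul_right_cancel (e.trans hg2.symm))).symm
  · have := h.conj S.hc g
    rwa [hg1, hg2] at this

omit S in
theorem chain_of_twin (hx : x ∈ D) (h : Twin D x y z) (hne : z ≠ y) (hv : v ∈ dperp D y)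
    (hvx : ¬ Commute v x) (hvz : ¬ Commute v z) : Chain D x v z y where
  ha := hx
  hb := hv.1
  hc := h.hq.1
  hd := h.hp.1
  nab := fun e => hvx e.symm
  nbc := hvz
  ncd := fun e => h.not_commute (Ne.symm hne) e.symm
  hac := h.hq.2.2
  had := h.hp.2.2
  hbd := hv.2.2.symm

theorem twin_of_chain (hx : x ∈ D) (h : Twin D x y z) (hne : z ≠ y) (hv : v ∈ dperp D y)
    (hvx : ¬ Commute v x) (hvz : ¬ Commute v z) : Twin D y x v := by
  obtain ⟨g, g1, g2, g3, g4, -⟩ := (chain_of_twin hx h hne hv hvx hvz).exists_rev S.hT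
  have := h.conj S.hc g
  rwa [g1, g4, g3] at this

theorem exists_mixed (hx : x ∈ D) (hy : y ∈ dperp D x) :
    ∃ z v, z ≠ y ∧ Twin D x y z ∧ Twin D y x v ∧ ¬ Commute v x ∧ ¬ Commute v z := by
  obtain ⟨z, hne, h⟩ := S.exists_twin hx hy
  by_cases hall : ∀ v ∈ dperp D y, ¬ Commute v x → Commute v z
  · exfalso
    apply hne
    have hsub : dperp D y ⊆ dperp D z := by
      intro v hv
      have hvz : v ≠ z := fun e => h.not_commute (Ne.symm hne) (e ▸ hv.2.2)
      refine ⟨hv.1, hvz, ?_⟩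
      by_cases hvx : v = x
      · rw [hvx]; exact h.hq.2.2.symm
      by_cases hc : Commute v x
      · have h1 : v ∈ dperp D x ∩ dperp D y := ⟨⟨hv.1, hvx, hc.symm⟩, hv⟩
        rw [h.same] at h1
        exact h1.2.2.2
      · exact (hall v hv hc).symm
    obtain ⟨g, hg⟩ := class_isConj S.cls h.hp.1 h.hq.1
    have heq : dperp D y = dperp D z := by
      refine Set.eq_of_subset_of_ncard_le hsub ?_ (Set.toFinite _)
      refine Set.ncard_le_ncard_of_injOn (fun w => g⁻¹ * w * g) (fun w hw => ?_) ?_ (Set.toFinite _)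
      · have := dperp_conj S.hc g⁻¹ hw
        rwa [inv_inv, ← hg, show g⁻¹ * (g * y * g⁻¹) * g = y by group] at this
      · exact fun u _ w _ e => mul_left_cancel (mul_right_cancel e)
    refine (eq_of_theta_perfect S.hsol S.cls h.hp.1 h.hq.1 fun e he => ?_).symm
    constructor
    · exact fun h' => (heq ▸ (⟨he, h'⟩ : e ∈ dperp D y) : e ∈ dperp D z).2
    · exact fun h' => (heq.symm ▸ (⟨he, h'⟩ : e ∈ dperp D z) : e ∈ dperp D y).2
  · push Not at hall
    obtain ⟨v, hv, hvx, hvz⟩ := hall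
    exact ⟨z, v, hne, h, S.twin_of_chain hx h hne hv hvx hvz, hvx, hvz⟩

/-- The blocks at the two ends of an edge agree on the common partners. -/
theorem twin_transfer (hx : x ∈ D) (hy : y ∈ dperp D x) (hu : u ∈ dperp D x ∩ dperp D y)
    (hq : Twin D x u q) : Twin D y u q := by
  obtain ⟨z, v, hne, h, h', hvx, hvz⟩ := S.exists_mixed hx hy
  obtain ⟨g, g1, -, -, -, g5⟩ := (chain_of_twin hx h hne h'.hq hvx hvz).exists_rev S.hT
  have hcomm : ∀ e, e ∈ dperp D x ∩ dperp D y → g * e * g⁻¹ = e := by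
    intro e he
    have hev : e ∈ dperp D y ∩ dperp D v := by
      rw [← h'.same]; exact ⟨he.2, he.1⟩
    have hez : e ∈ dperp D x ∩ dperp D z := h.same ▸ he
    have := g5 e he.1.2.2.symm hev.2.2.2.symm hez.2.2.2.symm he.2.2.2.symm
    rw [← this.eq, mul_inv_cancel_right]
  have hqS : q ∈ dperp D x ∩ dperp D y := by
    have h1 : y ∈ dperp D x ∩ dperp D q := by
      rw [← hq.same]; exact ⟨hy, dperp_symm hy.1 hu.2⟩
    exact ⟨hq.hq, hq.hq.1, Ne.symm h1.2.2.1, h1.2.2.2.symm⟩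
  have := hq.conj S.hc g
  rwa [g1, hcomm u hu, hcomm q hqS] at this

/-- No three distinct members commute pairwise. -/
theorem triangle_free (hx : x ∈ D) (hy : y ∈ dperp D x) : dperp D x ∩ dperp D y = ∅ := by
  rw [Set.eq_empty_iff_forall_notMem]
  intro u hu
  obtain ⟨z, v, -, h, h', -, hvz⟩ := S.exists_mixed hx hy
  have hyu : y ∈ dperp D x ∩ dperp D u := ⟨hy, dperp_symm hy.1 hu.2⟩
  have h1 : Twin D u y z := S.twin_transfer hx hu.1 hyu h
  have hv : u ∈ dperp D y ∩ dperp D v := by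
    rw [← h'.same]; exact ⟨hu.2, hu.1⟩
  have h2 : v ∈ dperp D u ∩ dperp D y :=
    ⟨⟨h'.hq.1, Ne.symm hv.2.2.1, hv.2.2.2.symm⟩, h'.hq⟩
  rw [h1.same] at h2
  exact hvz h2.2.2.2.symm

end Setup

end Cfsg.Agent.LocalTwins
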