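import Cfsg.Agent.ThreeTrans.RankThree
import Cfsg.Agent.S2530

/-!
# Four members forming a chain

Four members `a, b, c, d` of a set of 3-transpositions, each failing to commute exactly with its
neighbours, are the images of the adjacent transpositions of the symmetric group of degree five.
-/

set_option autoImplicit false

open Cfsg

namespace Cfsg.Agent.LocalTwins

open Cfsg.Agent.ThreeTrans

variable {G : Type*} [Group G] {D : Set G} {a b c d : G}

/-- Members `a, b, c, d` in a chain. -/
structure Chain (D : Set G) (a b c d : G) : Prop where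
  ha : a ∈ D
  hb : b ∈ D
  hc : c ∈ D
  hd : d ∈ D
  nab : ¬ Commute a b
  nbc : ¬ Commute b c
  ncd : ¬ Commute c d
  hac : Commute a c
  had : Commute a d
  hbd : Commute b d

/-- The adjacent transpositions of five letters. -/
def adj (i : Fin 4) : Equiv.Perm (Fin 5) := Equiv.swap i.castSucc i.succ

theorem Chain.exists_hom (hT : IsThreeTranspositionSet D) (h : Chain D a b c d) :
    ∃ φ : Equiv.Perm (Fin 5) →* G, ∀ i, φ (adj i) = ![a, b, c, d] i := by
  obtain ⟨cs, hcs⟩ := Cfsg.Agent.S2530.result 4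
  have hlift : CoxeterMatrix.IsLiftable (CoxeterMatrix.A 4) (![a, b, c, d] : Fin 4 → G) := by
    have q2 : ∀ u v, u ∈ D → v ∈ D → Commute u v → (u * v) ^ 2 = 1 := fun u v hu hv h =>
      (sq_eq_one_iff hT hu hv).2 h
    have q3 : ∀ u v, u ∈ D → v ∈ D → ¬ Commute u v → (u * v) ^ 3 = 1 := fun u v hu hv h =>
      cube_of_not_commute hT hu hv h
    intro i j
    fin_cases i <;> fin_cases j
    · exact (pow_one _).trans (mul_self hT h.ha)
    · exact q3 _ _ h.ha h.hb h.nab
    · exact q2 _ _ h.ha h.hc h.hac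
    · exact q2 _ _ h.ha h.hd h.had
    · exact q3 _ _ h.hb h.ha fun e => h.nab e.symm
    · exact (pow_one _).trans (mul_self hT h.hb)
    · exact q3 _ _ h.hb h.hc h.nbc
    · exact q2 _ _ h.hb h.hd h.hbd
    · exact q2 _ _ h.hc h.ha h.hac.symm
    · exact q3 _ _ h.hc h.hb fun e => h.nbc e.symm
    · exact (pow_one _).trans (mul_self hT h.hc)
    · exact q3 _ _ h.hc h.hd h.ncd
    · exact q2 _ _ h.hd h.ha h.had.symm
    · exact q2 _ _ h.hd h.hb h.hbd.symm
    · exact q3 _ _ h.hd h.hc fun e => h.ncd e.symm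
    · exact (pow_one _).trans (mul_self hT h.hd)
  refine ⟨cs.lift ⟨_, hlift⟩, fun i => ?_⟩
  show cs.lift ⟨_, hlift⟩ (Equiv.swap i.castSucc i.succ) = _
  rw [← hcs]
  exact cs.lift_apply_simple hlift i

/-- An element reversing the chain and commuting with everything the chain commutes with. -/
theorem Chain.exists_rev (hT : IsThreeTranspositionSet D) (h : Chain D a b c d) :
    ∃ g : G, g * a * g⁻¹ = d ∧ g * b * g⁻¹ = c ∧ g * c * g⁻¹ = b ∧ g * d * g⁻¹ = a ∧
      ∀ e : G, Commute e a → Commute e b → Commute e c → Commute e d → Commute e g := by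
  obtain ⟨φ, hφ⟩ := h.exists_hom hT
  let σ : Equiv.Perm (Fin 5) := Equiv.swap 0 4 * Equiv.swap 1 3
  have hσ : ∀ i, σ * adj i * σ⁻¹ = adj i.rev := by decide +kernel
  have key : ∀ i, φ σ * ![a, b, c, d] i * (φ σ)⁻¹ = ![a, b, c, d] i.rev := fun i => by
    rw [← hφ, ← hφ, ← map_inv, ← map_mul, ← map_mul, hσ]
  have hw : σ = adj 0 * adj 1 * adj 2 * adj 3 * adj 2 * adj 1 * adj 0 * (adj 1 * adj 2 * adj 1) := by
    decide +kernel
  refine ⟨φ σ, key 0, key 1, key 2, key 3, fun e h0 h1 h2 h3 => ?_⟩
  rw [hw]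
  simp only [map_mul, hφ]
  exact ((((((h0.mul_right h1).mul_right h2).mul_right h3).mul_right h2).mul_right h1).mul_right
    h0).mul_right ((h1.mul_right h2).mul_right h1)

theorem adj_generate : Subgroup.closure (Set.range adj) = ⊤ := by
  obtain ⟨cs, hcs⟩ := Cfsg.Agent.S2530.result 4
  have : (Set.range adj) = Set.range cs.simple := by
    congr 1
    funext i
    exact (hcs i).symm
  rw [this]
  exact cs.subgroup_closure_range_simple

/-- The homomorphism of a chain is injective. -/
theorem hom_injective (hT : IsThreeTranspositionSet D) (h : Chain D a b c d)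
    {φ : Equiv.Perm (Fin 5) →* G} (hφ : ∀ i, φ (adj i) = ![a, b, c, d] i) :
    Function.Injective φ := by
  rw [← MonoidHom.ker_eq_bot_iff, Subgroup.eq_bot_iff_forall]
  have hA5 := alternatingGroup.isSimpleGroup (α := Fin 5) (by rw [Nat.card_fin])
  rcases hA5.eq_bot_or_eq_top_of_normal _
      (Subgroup.Normal.subgroupOf (inferInstance : φ.ker.Normal) (alternatingGroup (Fin 5))) with
    hk0 | hk0
  · intro k hk
    have hz' : ∀ g, g * k = k * g := fun g => by
      have hmem : k * g * k⁻¹ * g⁻¹ ∈ φ.ker := by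
        rw [mul_assoc, mul_assoc, ← mul_assoc g]
        exact mul_mem hk ((inferInstance : φ.ker.Normal).conj_mem _ (inv_mem hk) g)
      have halt : k * g * k⁻¹ * g⁻¹ ∈ alternatingGroup (Fin 5) := by
        rw [Equiv.Perm.mem_alternatingGroup]
        simp only [map_mul, map_inv]
        rw [mul_comm (Equiv.Perm.sign k), mul_inv_cancel_right, mul_inv_cancel]
      have h1 : (⟨_, halt⟩ : alternatingGroup (Fin 5)) ∈
          φ.ker.subgroupOf (alternatingGroup (Fin 5)) := hmem
      rw [hk0, Subgroup.mem_bot] at h1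
      have h2 : k * g * k⁻¹ * g⁻¹ = 1 := congrArg Subtype.val h1
      calc g * k = (k * g * k⁻¹ * g⁻¹) * g * k := by rw [h2, one_mul]
        _ = k * g := by group
    exact (by decide +kernel : ∀ k : Equiv.Perm (Fin 5), (∀ i : Fin 4,
      adj i * k = k * adj i) → k = 1) k fun i => hz' _
  · exfalso
    have hmem : adj 0 * adj 2 ∈ alternatingGroup (Fin 5) := by
      rw [Equiv.Perm.mem_alternatingGroup]; decide +kernel
    have h1 : (⟨_, hmem⟩ : alternatingGroup (Fin 5)) ∈
        φ.ker.subgroupOf (alternatingGroup (Fin 5)) := hk0 ▸ Subgroup.mem_top _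
    rw [Subgroup.mem_subgroupOf, MonoidHom.mem_ker, map_mul, hφ, hφ] at h1
    have hca : c = a := by
      calc c = a * (a * c) := (mul_self_mul hT h.ha c).symm
        _ = a := by rw [show a * c = 1 from h1, mul_one]
    exact h.ncd (hca.symm ▸ h.had)

end Cfsg.Agent.LocalTwins
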