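import Cfsg.Agent.LocalTwins.Basic
import Cfsg.Agent.ThreeTrans.WidthOne

/-!
# Three members commute with a given one

A triangle free rank three graph whose sets of common neighbours have 3-power size is the Petersen
graph, if it is neither empty nor complete bipartite.
-/

set_option autoImplicit false

open Cfsg

namespace Cfsg.Agent.LocalTwins

open Cfsg.Agent.ThreeTrans

theorem exists_nat_trace {V : Type*} [Fintype V] [DecidableEq V] (E : Matrix V V ℝ)
    (h : E * E = E) : ∃ r : ℕ, E.trace = r := by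
  have hid : IsIdempotentElem (Matrix.toLin' E) := by
    show Matrix.toLin' E ∘ₗ Matrix.toLin' E = Matrix.toLin' E
    rw [← Matrix.toLin'_mul, h]
  refine ⟨Module.finrank ℝ (LinearMap.range (Matrix.toLin' E)), ?_⟩
  have h1 := (LinearMap.IsProj.trace (LinearMap.IsIdempotentElem.isProj_range _ hid))
  rwa [Matrix.trace_toLin'_eq] at h1

/-- The discriminant of a triangle free strongly regular graph is a square. -/
theorem exists_sqrt {V : Type*} [Fintype V] {Γ : SimpleGraph V} [DecidableRel Γ.Adj] {n k μ : ℕ}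
    (h : Γ.IsSRGWith n k 0 μ) (hn : 0 < n) (hk : 3 ≤ k) (hμ : 1 ≤ μ) (hμk : μ < k) :
    IsSquare (μ * μ + 4 * (k - μ)) := by
  classical
  by_contra hns
  have hp := SimpleGraph.IsSRGWith.param_eq Γ h hn
  set D : ℕ := μ * μ + 4 * (k - μ) with hD
  set t : ℝ := Real.sqrt D with ht
  have htI : Irrational t := irrational_sqrt_natCast_iff.2 hns
  have htt : t * t = (μ : ℝ) * μ + 4 * ((k : ℝ) - μ) := by
    rw [ht, Real.mul_self_sqrt (Nat.cast_nonneg _), hD, Nat.cast_add, Nat.cast_mul, Nat.cast_mul,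
      Nat.cast_sub hμk.le]
    norm_num
  have ht0 : t ≠ 0 := fun e => htI.ne_zero e
  have hkn : k < n := by
    by_contra hle
    push Not at hle
    have h0 : n - k - 1 = 0 := by omega
    rw [h0, zero_mul] at hp
    rcases Nat.mul_eq_zero.1 hp with h' | h' <;> omega
  have hpR : (k : ℝ) * ((k : ℝ) - 1) = ((n : ℝ) - k - 1) * μ := by
    have h1 : ((k * (k - 0 - 1) : ℕ) : ℝ) = (((n - k - 1) * μ : ℕ) : ℝ) := by rw [hp]
    rw [Nat.sub_zero, Nat.sub_sub n k 1, Nat.cast_mul, Nat.cast_mul, Nat.cast_sub (by omega),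
      Nat.cast_sub (by omega)] at h1
    push_cast at h1
    rw [h1]; ring
  set A := Γ.adjMatrix ℝ with hA
  let J : Matrix V V ℝ := Matrix.of fun _ _ => 1
  have hsq : A * A = ((k : ℝ) - μ) • 1 + (-(μ : ℝ)) • A + (μ : ℝ) • J := by
    have := h.matrix_eq (α := ℝ)
    rw [pow_two, ← hA] at this
    rw [this]
    simp only [← Nat.cast_smul_eq_nsmul ℝ]
    ext i j
    by_cases hij : i = j
    · subst hij; simp [J, hA]
    · by_cases ha : Γ.Adj i j <;> simp [J, hA, hij, ha]
  have hAJ : A * J = (k : ℝ) • J := by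
    ext i j
    simp [J, hA, Matrix.smul_apply, h.regular i]
  have hJA : J * A = (k : ℝ) • J := by
    ext i j
    simp [J, hA, Matrix.smul_apply, h.regular j]
  have hJJ : J * J = (n : ℝ) • J := by
    ext i j
    simp [J, Matrix.mul_apply, h.card]
  have hnR : (n : ℝ) ≠ 0 := by positivity
  set s : ℝ := (-(μ : ℝ) - t) / 2 with hs
  let E : Matrix V V ℝ := (1 / t) • (A - s • 1 - (((k : ℝ) - s) / n) • J)
  set c : ℝ := ((k : ℝ) - s) / n with hcdef
  have e1 : (k : ℝ) - μ + s * s = -(t * s) := by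
    rw [hs]; linear_combination -(1 / 4 : ℝ) * htt
  have hst : -(μ : ℝ) - 2 * s = t := by rw [hs]; ring
  have hcn : c * n = (k : ℝ) - s := by rw [hcdef]; field_simp
  have e3 : (μ : ℝ) * n = ((k : ℝ) - s) * ((k : ℝ) - s - t) := by
    rw [hs]; linear_combination -hpR + (1 / 4 : ℝ) * htt
  have e2 : (μ : ℝ) - c * ((k : ℝ) - s - t) = 0 := by
    refine mul_left_cancel₀ hnR ?_
    linear_combination e3 - ((k : ℝ) - s - t) * hcn
  let M : Matrix V V ℝ := A - s • 1 - c • J
  have hM : M * M = t • M := by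
    simp only [M, Matrix.smul_mul, Matrix.mul_smul, mul_sub, sub_mul, Matrix.one_mul,
      Matrix.mul_one, hsq, hAJ, hJA, hJJ]
    match_scalars
    all_goals first
      | linear_combination hst
      | linear_combination -hst
      | linear_combination e1
      | linear_combination -e1
      | linear_combination e2 + c * hcn
      | linear_combination -e2 - c * hcn
  have hE : E * E = E := by
    show ((1 / t) • M) * ((1 / t) • M) = (1 / t) • M
    rw [Matrix.smul_mul, Matrix.mul_smul, hM, smul_smul, smul_smul]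
    congr 1
    field_simp
  obtain ⟨r, hr⟩ := exists_nat_trace E hE
  have htr : E.trace = (-(n : ℝ) * s - ((k : ℝ) - s)) / t := by
    simp [E, J, hA, Matrix.trace_smul, h.card, Matrix.trace, Finset.sum_sub_distrib,
      Finset.sum_add_distrib]
    field_simp
  rw [htr, div_eq_iff ht0, hs] at hr
  have key : ((2 * (r : ℤ) - ((n : ℤ) - 1) : ℤ) : ℝ) * t = ((n : ℝ) - 1) * μ - 2 * k := by
    push_cast
    linear_combination -2 * hr
  have h0 : (2 * (r : ℤ) - ((n : ℤ) - 1)) = 0 := by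
    by_contra hne
    apply (htI.intCast_mul hne).ne_int (((n : ℤ) - 1) * μ - 2 * k)
    rw [key]; push_cast; ring
  rw [h0, Int.cast_zero, zero_mul] at key
  have h3 : ((k : ℝ) + μ - 3) * k = 0 := by linear_combination hpR + key.symm
  have hk' : (3 : ℝ) ≤ k := by exact_mod_cast hk
  have hμ' : (1 : ℝ) ≤ μ := by exact_mod_cast hμ
  nlinarith

theorem not_square_mul : ∀ b m : ℕ, m % 3 = 2 → ¬ IsSquare (3 ^ b * m) := by
  intro b
  induction b using Nat.strong_induction_on with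
  | _ b ih =>
    rintro m hm ⟨s, hs⟩
    rcases b with _ | b
    · rw [pow_zero, one_mul] at hs
      rw [hs, Nat.mul_mod] at hm
      have := Nat.mod_lt s (by norm_num : 3 > 0)
      interval_cases h : s % 3 <;> simp_all
    · have h3 : 3 ∣ s := by
        have : 3 ∣ s * s := hs ▸ dvd_mul_of_dvd_left (dvd_pow_self 3 (by omega)) m
        exact ((Nat.Prime.dvd_mul (by norm_num)).1 this).elim id id
      obtain ⟨t, rfl⟩ := h3
      rcases b with _ | b
      · rw [zero_add, pow_one, show 3 * t * (3 * t) = 3 * (3 * (t * t)) by ring] at hs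
        omega
      · exact ih b (by omega) m hm ⟨t, by
          have : 3 ^ (b + 1 + 1) * m = 9 * (3 ^ b * m) := by ring
          rw [this] at hs
          linarith⟩

theorem eq_of_square {a b : ℕ} (hb : b < a) (h : IsSquare (3 ^ b * 3 ^ b + 4 * (3 ^ a - 3 ^ b))) :
    b = 0 ∧ a = 1 := by
  obtain ⟨j, rfl⟩ : ∃ j, a = b + 1 + j := ⟨a - b - 1, by omega⟩
  have hpow : (3 : ℕ) ^ (b + 1 + j) = 3 ^ b * (3 * 3 ^ j) := by ring
  have h1 : 1 ≤ 3 ^ j := Nat.one_le_pow _ _ (by norm_num)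
  have hbp : 1 ≤ 3 ^ b := Nat.one_le_pow _ _ (by norm_num)
  have hfac : 3 ^ b * 3 ^ b + 4 * (3 ^ (b + 1 + j) - 3 ^ b) =
      3 ^ b * (3 ^ b + 4 * (3 * 3 ^ j - 1)) := by
    rw [hpow, Nat.mul_sub, Nat.mul_sub, Nat.mul_add, Nat.mul_sub]
    ring_nf
  rw [hfac] at h
  rcases b with _ | b
  · refine ⟨rfl, ?_⟩
    rcases j with _ | j
    · rfl
    · exfalso
      refine not_square_mul 1 (4 * 3 ^ (j + 1) - 1) ?_ ?_
      · rw [pow_succ]; have := Nat.one_le_pow j 3 (by norm_num); omega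
      · convert h using 1
        simp; omega
  · exfalso
    refine not_square_mul _ _ ?_ h
    rw [pow_succ]; omega

section

variable {G : Type*} [Group G] [Finite G]

/-- A set of members, no two commuting, closed under conjugation in itself has 3-power size. -/
theorem ncard_three_pow {D : Set G} (hT : IsThreeTranspositionSet D) {T : Set G} (hTD : T ⊆ D)
    (hne : T.Nonempty) (hnc : ∀ p ∈ T, ∀ q ∈ T, Commute p q → p = q)
    (hcl : ∀ p ∈ T, ∀ q ∈ T, p * q * p ∈ T) : ∃ j, T.ncard = 3 ^ j := by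
  classical
  have : Fact (Nat.Prime 3) := ⟨Nat.prime_three⟩
  let K : Subgroup G := Subgroup.closure T
  have hconj : ∀ g : G, g ∈ K → ∀ t ∈ T, g * t * g⁻¹ ∈ T ∧ g⁻¹ * t * g ∈ T := by
    intro g hg
    induction hg using Subgroup.closure_induction with
    | mem p hp =>
      intro t ht
      rw [inv_eq hT (hTD hp)]
      exact ⟨hcl p hp t ht, hcl p hp t ht⟩
    | one => intro t ht; simpa using ht
    | mul a b _ _ iha ihb =>
      intro t ht
      refine ⟨?_, ?_⟩
      · rw [show a * b * t * (a * b)⁻¹ = a * (b * t * b⁻¹) * a⁻¹ by group]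
        exact (iha _ (ihb t ht).1).1
      · rw [show (a * b)⁻¹ * t * (a * b) = b⁻¹ * (a⁻¹ * t * a) * b by group]
        exact (ihb _ (iha t ht).2).2
    | inv a _ iha =>
      intro t ht
      rw [inv_inv]
      exact (iha t ht).symm
  let T' : Set K := {t | (t : G) ∈ T}
  have hT' : IsCubeSet T' := by
    refine ⟨fun g t ht => (hconj g g.2 t ht).1, fun t ht => ?_, fun s hs t ht => Subtype.ext ?_⟩
    · rw [← Subgroup.orderOf_coe]; exact hT.1 _ (hTD ht)
    · show ((s : G) * t) ^ 3 = 1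
      by_cases h : Commute (s : G) t
      · rw [hnc _ hs _ ht h, mul_self hT (hTD ht), one_pow]
      · exact cube_of_not_commute hT (hTD hs) (hTD ht) h
  obtain ⟨a₀, ha₀⟩ := hne
  let a : K := ⟨a₀, Subgroup.subset_closure ha₀⟩
  have haT : a ∈ T' := ha₀
  let P := pCore 3 K
  let f : P → K := fun w => (w : K) * a * (w : K)⁻¹
  have hrange : Set.range f = T' := by
    refine Set.eq_of_subset_of_subset ?_ ?_
    · rintro _ ⟨w, rfl⟩; exact hT'.conj _ a haT
    · intro b hb
      refine ⟨⟨a * b, hT'.mul_mem_pCore haT hb⟩, ?_⟩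
      show a * b * a * (a * b)⁻¹ = b
      rw [mul_inv_rev, hT'.inv_eq haT, hT'.inv_eq hb]
      calc a * b * a * (b * a) = (a * b) ^ 3 * b⁻¹ := by simp [pow_succ, mul_assoc]
        _ = b := by rw [hT'.cube a haT b hb, one_mul, hT'.inv_eq hb]
  have hcardT : T'.ncard = T.ncard :=
    Set.ncard_congr (fun t _ => (t : G)) (fun t ht => ht) (fun _ _ _ _ e => Subtype.ext e)
      (fun b hb => ⟨⟨b, Subgroup.subset_closure hb⟩, hb, rfl⟩)
  let C : Subgroup P := (Subgroup.centralizer ({a} : Set K)).subgroupOf P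
  have heq : Set.range f ≃ P ⧸ C := by
    refine (Equiv.ofBijective (fun q : P ⧸ C => Quotient.liftOn' q (fun w => (⟨f w, w, rfl⟩ : Set.range f))
      ?_) ⟨?_, ?_⟩).symm
    · intro u w huw
      rw [QuotientGroup.leftRel_apply] at huw
      have h1 : ((u : K)⁻¹ * w) * a = a * ((u : K)⁻¹ * w) :=
        Subgroup.mem_centralizer_singleton_iff.1 huw
      apply Subtype.ext
      show (u : K) * a * (u : K)⁻¹ = (w : K) * a * (w : K)⁻¹
      calc (u : K) * a * (u : K)⁻¹ = u * (a * ((u : K)⁻¹ * w)) * (w : K)⁻¹ := by group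
        _ = (w : K) * a * (w : K)⁻¹ := by rw [← h1]; group
    · intro q q'
      induction q using Quotient.inductionOn' with | _ u => ?_
      induction q' using Quotient.inductionOn' with | _ w => ?_
      intro e
      have e1 : (u : K) * a * (u : K)⁻¹ = (w : K) * a * (w : K)⁻¹ := congrArg Subtype.val e
      apply Quotient.sound'
      rw [QuotientGroup.leftRel_apply]
      refine Subgroup.mem_centralizer_singleton_iff.2 ?_
      show (u : K)⁻¹ * w * a = a * ((u : K)⁻¹ * w)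
      calc (u : K)⁻¹ * w * a = (u : K)⁻¹ * ((w : K) * a * (w : K)⁻¹) * w := by group
        _ = _ := by rw [← e1]; group
    · rintro ⟨_, w, rfl⟩
      exact ⟨Quotient.mk'' w, rfl⟩
  have h1 : T.ncard = C.index := by
    rw [← hcardT, ← hrange, ← Nat.card_coe_set_eq, Nat.card_congr heq]
    rfl
  obtain ⟨i, hi⟩ := IsPGroup.iff_card.1 (Core.pCore_isPGroup (p := 3) (G := K))
  obtain ⟨j, -, hj⟩ := (Nat.dvd_prime_pow Nat.prime_three).1 (hi ▸ C.index_dvd_card)
  exact ⟨j, h1.trans hj⟩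

variable {D : Set G}

/-- The commuting graph on the members. -/
def cgraph (D : Set G) : SimpleGraph ↥D where
  Adj u v := u ≠ v ∧ Commute (u : G) v
  symm := ⟨fun _ _ h => ⟨h.1.symm, h.2.symm⟩⟩
  loopless := ⟨fun _ h => h.1 rfl⟩

namespace Setup

theorem ncard_eq (S : Setup D) : (∀ x ∈ D, (dperp D x).ncard = 3) ∧ D.ncard = 10 := by
  classical
  obtain ⟨a₀, p₀, q₀, ha₀, htw, hpq⟩ := S.twins
  obtain ⟨w₀, hw₀, hw₀a⟩ : ∃ w ∈ D, ¬ Commute a₀ w := by
    obtain ⟨g, hg⟩ := class_isConj S.cls htw.hp.1 ha₀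
    have h1 := dperp_conj S.hc g htw.hp
    refine ⟨g * q₀ * g⁻¹, S.hc g _ htw.hq.1, fun h => htw.not_commute hpq ?_⟩
    rw [← hg] at h
    exact (commute_conj g _ _).1 h
  set k := (dperp D a₀).ncard with hk
  set μ := (dperp D a₀ ∩ dperp D w₀).ncard with hμ
  have himg : ∀ g x : G, (fun e => g * e * g⁻¹) '' dperp D x = dperp D (g * x * g⁻¹) := by
    intro g x
    refine Set.ext fun e => ⟨?_, fun h => ⟨g⁻¹ * e * g, ?_, by group⟩⟩
    · rintro ⟨e, he, rfl⟩; exact dperp_conj S.hc g he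
    · refine (dperp_conj_iff S.hc g x _).1 ?_
      rwa [show g * (g⁻¹ * e * g) * g⁻¹ = e by group]
  have hinj : ∀ g : G, Function.Injective fun e => g * e * g⁻¹ :=
    fun g u v h => mul_left_cancel (mul_right_cancel h)
  have hreg : ∀ x ∈ D, (dperp D x).ncard = k := by
    intro x hx
    obtain ⟨g, hg⟩ := class_isConj S.cls ha₀ hx
    rw [← hg, ← himg, Set.ncard_image_of_injective _ (hinj g)]
  have hnadj : ∀ x ∈ D, ∀ w ∈ D, ¬ Commute x w → (dperp D x ∩ dperp D w).ncard = μ := by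
    intro x hx w hw hxw
    obtain ⟨g, hg⟩ := class_isConj S.cls ha₀ hx
    obtain ⟨h, hh, hh2⟩ := exists_commute_conj_not_commute S.hsol S.hperf S.cls hx
      (S.hc g w₀ hw₀) hw (fun e => hw₀a ((commute_conj g _ _).1 (hg.symm ▸ e))) hxw
    have e1 : (h * g) * a₀ * (h * g)⁻¹ = x := by
      calc (h * g) * a₀ * (h * g)⁻¹ = h * (g * a₀ * g⁻¹) * h⁻¹ := by group
        _ = x := by rw [hg, hh.eq, mul_inv_cancel_right]
    have e2 : (h * g) * w₀ * (h * g)⁻¹ = w := by
      rw [← hh2]; group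
    rw [← e1, ← e2, ← himg, ← himg, ← Set.image_inter (hinj _),
      Set.ncard_image_of_injective _ (hinj _)]
  have : Fintype ↥D := Fintype.ofFinite _
  let Γ := cgraph D
  have hnb : ∀ v : ↥D, Subtype.val '' Γ.neighborSet v = dperp D (v : G) := by
    intro v
    refine Set.ext fun e => ⟨?_, fun h => ⟨⟨e, h.1⟩, ⟨fun h' => h.2.1 (congrArg Subtype.val h').symm, h.2.2⟩, rfl⟩⟩
    rintro ⟨u, hu, rfl⟩
    exact ⟨u.2, fun h' => hu.1 (Subtype.ext h'.symm), hu.2⟩
  have hcn : ∀ u v : ↥D, Fintype.card (Γ.commonNeighbors u v) =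
      (dperp D (u : G) ∩ dperp D (v : G)).ncard := by
    intro u v
    rw [← Nat.card_eq_fintype_card, Nat.card_coe_set_eq, ← hnb, ← hnb,
      ← Set.image_inter Subtype.val_injective, Set.ncard_image_of_injective _ Subtype.val_injective]
    rfl
  have hsrg : Γ.IsSRGWith D.ncard k 0 μ := by
    refine ⟨?_, fun v => ?_, fun v w hvw => ?_, fun v w hne hvw => ?_⟩
    · rw [← Nat.card_eq_fintype_card, Nat.card_coe_set_eq]
    · rw [← hreg v v.2, ← hnb, Set.ncard_image_of_injective _ Subtype.val_injective,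
        ← Nat.card_coe_set_eq, Nat.card_eq_fintype_card, SimpleGraph.card_neighborSet_eq_degree]
    · rw [hcn, S.triangle_free v.2 (⟨w.2, fun h => hvw.1 (Subtype.ext h.symm), hvw.2⟩ :
        (w : G) ∈ dperp D (v : G)), Set.ncard_empty]
    · rw [hcn]
      exact hnadj v v.2 w w.2 fun h => hvw ⟨hne, h⟩
  have hnc : ∀ x ∈ D, ∀ p ∈ dperp D x, ∀ q ∈ dperp D x, Commute p q → p = q := by
    intro x hx p hp q hq h
    by_contra hne
    have : q ∈ dperp D x ∩ dperp D p := ⟨hq, hq.1, Ne.symm hne, h⟩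
    rw [S.triangle_free hx hp] at this
    exact this
  have hcl : ∀ x ∈ D, ∀ p ∈ dperp D x, ∀ q ∈ dperp D x, p * q * p ∈ dperp D x := by
    intro x hx p hp q hq
    have := dperp_conj S.hc p hq
    rwa [inv_eq S.hT hp.1, ← hp.2.2.eq, mul_mul_self S.hT hp.1] at this
  obtain ⟨x₁, hx₁, hx₁w⟩ := exists_common S.hsol S.hperf S.cls ha₀ hw₀ hw₀a
  have hx₁w' : x₁ ∈ dperp D w₀ := ⟨hx₁.1, fun e => hw₀a (e ▸ hx₁.2.2), hx₁w.symm⟩
  obtain ⟨a, ha⟩ := ncard_three_pow S.hT (fun e he => he.1) ⟨p₀, htw.hp⟩ (hnc a₀ ha₀) (hcl a₀ ha₀)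
  obtain ⟨b, hb⟩ := ncard_three_pow S.hT (T := dperp D a₀ ∩ dperp D w₀) (fun e he => he.1.1)
    ⟨x₁, hx₁, hx₁w'⟩ (fun p hp q hq => hnc a₀ ha₀ p hp.1 q hq.1)
    (fun p hp q hq => ⟨hcl a₀ ha₀ p hp.1 q hq.1, hcl w₀ hw₀ p hp.2 q hq.2⟩)
  have hμk : μ < k := by
    obtain ⟨x₂, hx₂, hx₂w⟩ := exists_dperp_not_commute S.hsol S.cls ha₀ hw₀ hw₀a
    refine Set.ncard_lt_ncard ⟨Set.inter_subset_left, fun hsub => hx₂w ?_⟩ (Set.toFinite _)
    exact (hsub hx₂).2.2.2.symm
  have hk2 : 2 ≤ k := by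
    refine le_trans ?_ (Set.ncard_le_ncard (s := {p₀, q₀}) ?_ (Set.toFinite _))
    · rw [Set.ncard_pair hpq]
    · exact Set.insert_subset_iff.2 ⟨htw.hp, Set.singleton_subset_iff.2 htw.hq⟩
  have ha' : k = 3 ^ a := ha
  have hb' : μ = 3 ^ b := hb
  have hk3 : 3 ≤ k := by
    rcases a with _ | a
    · simp at ha'; omega
    · rw [ha', pow_succ]; have := Nat.one_le_pow a 3 (by norm_num); omega
  have hμ1 : 1 ≤ μ := hb' ▸ Nat.one_le_pow _ _ (by norm_num)
  have hn : 0 < D.ncard := (Set.ncard_pos (Set.toFinite _)).2 ⟨a₀, ha₀⟩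
  have hsquare := exists_sqrt hsrg hn hk3 hμ1 hμk
  rw [ha', hb'] at hsquare
  obtain ⟨rfl, rfl⟩ := eq_of_square ((Nat.pow_lt_pow_iff_right (by norm_num)).1 (ha' ▸ hb' ▸ hμk))
    hsquare
  refine ⟨fun x hx => by rw [hreg x hx, ha']; rfl, ?_⟩
  have hp := SimpleGraph.IsSRGWith.param_eq Γ hsrg hn
  rw [ha', hb'] at hp
  simp only [pow_zero, pow_one, Nat.mul_one] at hp
  omega

end Setup

end

end Cfsg.Agent.LocalTwins
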